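import Mathlib
import Groth.Prelude.Def_ComodTens
import Groth.Prelude.Def_ComodDual
import Groth.Prelude.Def_Hoch

/-! Invariants of `B ⊗ M^*` and comodule maps `M → B`. -/

set_option autoImplicit false

universe u v w w'

noncomputable section

open TensorProduct

namespace Groth.ComodHom

theorem bijective_dualTensorHom_of_flat {k : Type u} [CommRing k] {M : Type w} [AddCommGroup M] [Module k M]
    [Module.FinitePresentation k M] {N : Type w'} [AddCommGroup N] [Module k N] [Module.Flat k N] :
    Function.Bijective (dualTensorHom k M N) := by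
  constructor
  · obtain ⟨q, π, hπ⟩ := Module.Finite.exists_fin' k M
    have hi : Function.Injective (π.dualMap.rTensor N) :=
      Module.Flat.rTensor_preserves_injective_linearMap _ (LinearMap.dualMap_injective_of_surjective hπ)
    have hq := (dualTensorHom_bijective (R := k) (M := Fin q → k) (N := N)).1
    have hsq : ∀ z, dualTensorHom k (Fin q → k) N (π.dualMap.rTensor N z) = dualTensorHom k M N z ∘ₗ π := by
      intro z
      induction z using TensorProduct.induction_on with
      | zero => simp
      | tmul φ n => ext x; simp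
      | add a b ha hb => simp [map_add, ha, hb, LinearMap.add_comp]
    intro a b e
    exact hi (hq (by rw [hsq, hsq, e]))
  · intro h
    obtain ⟨l, f, g, hfg⟩ := Module.Flat.exists_factorization_of_finitePresentation h
    classical
    refine ⟨∑ i, (Finsupp.lapply i ∘ₗ f) ⊗ₜ[k] g (Finsupp.single i 1), LinearMap.ext fun x => ?_⟩
    rw [hfg, map_sum, LinearMap.sum_apply]
    simp only [dualTensorHom_apply, LinearMap.comp_apply, Finsupp.lapply_apply, ← map_smul, ← map_sum,
      Finsupp.smul_single_one, Finsupp.univ_sum_single]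

variable {k : Type u} [CommRing k] {A : Type v} [CommRing A] [HopfAlgebra k A]
  {B : Type w} [AddCommGroup B] [Module k B] {M : Type w'} [AddCommGroup M] [Module k M]

variable (k A B) in
/-- Multiply out the two algebra factors. -/
def mu : (B ⊗[k] A) ⊗[k] A →ₗ[k] B ⊗[k] A :=
  (LinearMap.mul' k A).lTensor B ∘ₗ (TensorProduct.assoc k B A A).toLinearMap

@[simp] theorem mu_tmul (b : B) (a a' : A) : mu k A B ((b ⊗ₜ a) ⊗ₜ a') = b ⊗ₜ (a * a') := by
  simp [mu]

theorem mu_mu (β : A →ₗ[k] A) (x : B ⊗[k] A) (a c : A) (α : A →ₗ[k] A) :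
    mu k A B (mu k A B (x ⊗ₜ α a) ⊗ₜ β c) = mu k A B (x ⊗ₜ (α a * β c)) := by
  induction x using TensorProduct.induction_on with
  | zero => simp
  | tmul p q => simp [mul_assoc]
  | add p q hp hq => simp only [add_tmul, map_add, hp, hq]

/-- Twisted convolution of a map into `B ⊗ A` with a map of the algebra. -/
def conv (cM : HopfRep.Comod k A M) (α : A →ₗ[k] A) (F : M →ₗ[k] B ⊗[k] A) : M →ₗ[k] B ⊗[k] A :=
  mu k A B ∘ₗ TensorProduct.map F α ∘ₗ cM.coact

theorem conv_conv (cM : HopfRep.Comod k A M) (α β : A →ₗ[k] A) (F : M →ₗ[k] B ⊗[k] A) :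
    conv cM β (conv cM α F) =
      conv cM (LinearMap.mul' k A ∘ₗ TensorProduct.map α β ∘ₗ CoalgebraStruct.comul) F := by
  refine LinearMap.ext fun m => ?_
  have key : ∀ w : (M ⊗[k] A) ⊗[k] A,
      mu k A B (TensorProduct.map (mu k A B ∘ₗ TensorProduct.map F α) β w) =
        mu k A B (TensorProduct.map F (LinearMap.mul' k A ∘ₗ TensorProduct.map α β)
          (TensorProduct.assoc k M A A w)) := by
    intro w
    induction w using TensorProduct.induction_on with
    | zero => simp
    | tmul z c =>
      induction z using TensorProduct.induction_on with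
      | zero => simp
      | tmul p a => simp [mu_mu]
      | add p q hp hq => simp only [add_tmul, map_add, hp, hq]
    | add p q hp hq => simp only [map_add, hp, hq]
  have hc := LinearMap.congr_fun cM.coassoc m
  simp only [LinearMap.comp_apply, LinearEquiv.coe_coe] at hc
  change mu k A B (TensorProduct.map ((mu k A B ∘ₗ TensorProduct.map F α) ∘ₗ cM.coact) β (cM.coact m)) = _
  rw [← LinearMap.comp_id β, TensorProduct.map_comp, LinearMap.comp_id]
  change mu k A B (TensorProduct.map (mu k A B ∘ₗ TensorProduct.map F α) β (cM.coact.rTensor A (cM.coact m))) = _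
  rw [key, hc]
  simp only [conv, LinearMap.comp_apply]
  rw [LinearMap.lTensor, ← LinearMap.comp_apply (TensorProduct.map F _), ← TensorProduct.map_comp,
    LinearMap.comp_id, LinearMap.comp_assoc]

theorem conv_one (cM : HopfRep.Comod k A M) (F : M →ₗ[k] B ⊗[k] A) :
    conv cM (Algebra.linearMap k A ∘ₗ CoalgebraStruct.counit) F = F := by
  refine LinearMap.ext fun m => ?_
  have h := LinearMap.congr_fun cM.counit_comp m
  simp only [LinearMap.comp_apply, LinearMap.flip_apply, TensorProduct.mk_apply] at h
  simp only [conv, LinearMap.comp_apply]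
  rw [← LinearMap.comp_id F, TensorProduct.map_comp, LinearMap.comp_id]
  simp only [LinearMap.comp_apply]
  change mu k A B (TensorProduct.map F (Algebra.linearMap k A)
    ((CoalgebraStruct.counit (R := k) (A := A)).lTensor M (cM.coact m))) = _
  rw [h, TensorProduct.map_tmul]
  generalize F m = x
  induction x using TensorProduct.induction_on with
  | zero => simp
  | tmul p q => simp
  | add p q hp hq => simp only [add_tmul, map_add, hp, hq]

theorem conv_antipode_id (cM : HopfRep.Comod k A M) (F : M →ₗ[k] B ⊗[k] A) :
    conv cM LinearMap.id (conv cM (HopfAlgebraStruct.antipode (R := k)) F) = F := by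
  rw [conv_conv, ← LinearMap.rTensor, HopfAlgebra.mul_antipode_rTensor_comul, conv_one]

theorem conv_id_antipode (cM : HopfRep.Comod k A M) (F : M →ₗ[k] B ⊗[k] A) :
    conv cM (HopfAlgebraStruct.antipode (R := k)) (conv cM LinearMap.id F) = F := by
  rw [conv_conv, ← LinearMap.lTensor, HopfAlgebra.mul_antipode_lTensor_comul, conv_one]

variable (A) in
/-- `h ⊗ 1`. -/
def tOne (h : M →ₗ[k] B) : M →ₗ[k] B ⊗[k] A := (TensorProduct.mk k B A).flip 1 ∘ₗ h

theorem conv_id_tOne (cM : HopfRep.Comod k A M) (h : M →ₗ[k] B) :
    conv cM LinearMap.id (tOne A h) = h.rTensor A ∘ₗ cM.coact := by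
  refine LinearMap.ext fun m => ?_
  simp only [conv, LinearMap.comp_apply]
  generalize cM.coact m = z
  induction z using TensorProduct.induction_on with
  | zero => simp
  | tmul p q => simp [tOne]
  | add p q hp hq => simp only [map_add, hp, hq]

theorem isComodHom_iff (cB : HopfRep.Comod k A B) (cM : HopfRep.Comod k A M) (h : M →ₗ[k] B) :
    @Hoch.IsComodHom k _ A _ _ _ M _ _ cM B _ _ cB h ↔
      conv cM (HopfAlgebraStruct.antipode (R := k)) (cB.coact ∘ₗ h) = tOne A h := by
  constructor
  · intro e
    rw [show cB.coact ∘ₗ h = conv cM LinearMap.id (tOne A h) from e.trans (conv_id_tOne cM h).symm,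
      conv_id_antipode]
  · intro e
    exact ((conv_antipode_id cM (cB.coact ∘ₗ h)).symm.trans
      ((congrArg (conv cM LinearMap.id) e).trans (conv_id_tOne cM h)) :)

variable (k A B M) in
/-- Read an element of `(B ⊗ M^*) ⊗ A` as a map `M → B ⊗ A`. -/
def read : (B ⊗[k] Module.Dual k M) ⊗[k] A →ₗ[k] (M →ₗ[k] B ⊗[k] A) :=
  dualTensorHom k M (B ⊗[k] A) ∘ₗ
    (TensorProduct.assoc k (Module.Dual k M) B A).toLinearMap ∘ₗ
      (TensorProduct.comm k B (Module.Dual k M)).toLinearMap.rTensor A

theorem read_tmul (b : B) (φ : Module.Dual k M) (a : A) (m : M) :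
    read k A B M ((b ⊗ₜ φ) ⊗ₜ a) m = φ m • (b ⊗ₜ a) := by
  simp [read]

theorem read_injective [Module.FinitePresentation k M] [Module.Flat k A] [Module.Flat k B] :
    Function.Injective (read k A B M) := by
  refine bijective_dualTensorHom_of_flat.1.comp ((TensorProduct.assoc k _ B A).injective.comp ?_)
  exact ((TensorProduct.comm k B (Module.Dual k M)).rTensor A).injective

theorem read_tensor_coact (cB : HopfRep.Comod k A B) (cM : HopfRep.Comod k A M)
    (d : HopfRep.Comod k A (Module.Dual k M)) (hd : ComodTens.Comod.IsDual cM d)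
    (x : B ⊗[k] Module.Dual k M) :
    read k A B M ((ComodTens.Comod.tensor cB d).coact x) =
      conv cM (HopfAlgebraStruct.antipode (R := k))
        (cB.coact ∘ₗ dualTensorHom k M B (TensorProduct.comm k B (Module.Dual k M) x)) := by
  induction x using TensorProduct.induction_on with
  | zero => ext m; simp [conv]
  | add x y hx hy =>
    rw [map_add, map_add, hx, hy]
    ext m
    simp [conv, map_add, LinearMap.comp_add, TensorProduct.map_add_left]
  | tmul b φ =>
    refine LinearMap.ext fun m => ?_
    have e1 : ∀ (y : B ⊗[k] A) (D : Module.Dual k M ⊗[k] A),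
        read k A B M (TensorProduct.map LinearMap.id (LinearMap.mul' k A)
          (AlgebraTensorModule.tensorTensorTensorComm k k k k B A (Module.Dual k M) A (y ⊗ₜ[k] D))) m =
        mu k A B (y ⊗ₜ[k] dualTensorHom k M A D m) := by
      intro y D
      induction y using TensorProduct.induction_on with
      | zero => simp
      | add y z hy hz => simp only [add_tmul, map_add, LinearMap.add_apply, hy, hz]
      | tmul b' a' =>
        induction D using TensorProduct.induction_on with
        | zero => simp
        | add y z hy hz => simp only [tmul_add, map_add, LinearMap.add_apply, hy, hz]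
        | tmul ψ a => simp [read_tmul, tmul_smul, smul_tmul', mul_comm]
    rw [ComodTens.tensor_coact_tmul, e1, hd φ, ComodTens.dualCoactFun_apply]
    simp only [conv, LinearMap.comp_apply]
    generalize cM.coact m = z
    induction z using TensorProduct.induction_on with
    | zero => simp
    | tmul p a => simp [tmul_smul, smul_tmul']
    | add p q hp hq => simp only [map_add, tmul_add, hp, hq]

theorem read_tOne (x : B ⊗[k] Module.Dual k M) :
    read k A B M (x ⊗ₜ[k] (1 : A)) =
      tOne A (dualTensorHom k M B (TensorProduct.comm k B (Module.Dual k M) x)) := by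
  induction x using TensorProduct.induction_on with
  | zero => ext m; simp [tOne]
  | tmul b φ => ext m; simp [read_tmul, tOne, smul_tmul']
  | add x y hx hy => rw [add_tmul, map_add, hx, hy]; ext m; simp [tOne, map_add, add_tmul]

end Groth.ComodHom
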